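import Groth.Agent.KFlat.Assoc
import Groth.Agent.HDU.ModData
import Groth.Agent.PullFlat.TensorIso
import Mathlib.Algebra.Category.ModuleCat.Sheaf.PullbackFree
import Mathlib.CategoryTheory.Functor.Flat

/-!
Invertible modules on ringed sites: modules whose tensor functor is an equivalence.
-/

set_option backward.isDefEq.respectTransparency false
set_option backward.isDefEq.respectTransparency.types false
set_option linter.style.haveILetI false
set_option autoImplicit false
universe u

namespace Groth.Agent.InvSite

open CategoryTheory Limits Opposite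

variable {C : Type u} [SmallCategory C] {J : GrothendieckTopology C} {O : Sheaf J CommRingCat.{u}}

variable (O) in
/-- the unit acts as the identity -/
noncomputable def unitIsoId : (ModSite.tensorBi O).obj (ModSite.unit O) ≅ 𝟭 (ModSite.Mod O) :=
  (KFlat.braid O).app (ModSite.unit O) ≪≫ HDU.tensorUnitIso O

/-- tensoring by a tensor product is composing -/
noncomputable def compIso (L N : ModSite.Mod O) :
    (ModSite.tensorBi O).obj (((ModSite.tensorBi O).obj L).obj N) ≅
      (ModSite.tensorBi O).obj N ⋙ (ModSite.tensorBi O).obj L :=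
  ((KFlat.assocB O).app L).app N

lemma isEquivalence_tensor {L N : ModSite.Mod O} (hL : ((ModSite.tensorBi O).obj L).IsEquivalence)
    (hN : ((ModSite.tensorBi O).obj N).IsEquivalence) :
    ((ModSite.tensorBi O).obj (((ModSite.tensorBi O).obj L).obj N)).IsEquivalence :=
  Functor.isEquivalence_of_iso (compIso L N).symm

lemma isEquivalence_flip {L : ModSite.Mod O} (hL : ((ModSite.tensorBi O).obj L).IsEquivalence) :
    ((ModSite.tensorBi O).flip.obj L).IsEquivalence :=
  Functor.isEquivalence_of_iso ((KFlat.braid O).app L)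

lemma isEquivalence_of_inverse {L N : ModSite.Mod O} (e : ((ModSite.tensorBi O).obj L).obj N ≅ ModSite.unit O) :
    ((ModSite.tensorBi O).obj L).IsEquivalence := by
  have e' : ((ModSite.tensorBi O).obj N).obj L ≅ ModSite.unit O := (((KFlat.braid O).app N).app L) ≪≫ e
  exact (CategoryTheory.Equivalence.mk ((ModSite.tensorBi O).obj L) ((ModSite.tensorBi O).obj N)
    ((unitIsoId O).symm ≪≫ (ModSite.tensorBi O).mapIso e'.symm ≪≫ compIso N L)
    ((compIso L N).symm ≪≫ (ModSite.tensorBi O).mapIso e ≪≫ unitIsoId O)).isEquivalence_functor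

lemma exists_inverse {L : ModSite.Mod O} (hL : ((ModSite.tensorBi O).obj L).IsEquivalence) :
    ∃ N, Nonempty (((ModSite.tensorBi O).obj L).obj N ≅ ModSite.unit O) :=
  ⟨_, ⟨((ModSite.tensorBi O).obj L).objObjPreimageIso (ModSite.unit O)⟩⟩

lemma sheafHom_unit (L : ModSite.Mod O) (hL : ((ModSite.tensorBi O).obj L).IsEquivalence) [ModSite.HasSheafHom L] :
    ((ModSite.tensorBi O).obj ((ModSite.sheafHom L).obj (ModSite.unit O))).IsEquivalence ∧
      IsIso ((ModSite.sheafHomAdj L).counit.app (ModSite.unit O)) := by
  haveI := isEquivalence_flip hL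
  haveI : (ModSite.sheafHom L).IsEquivalence := (ModSite.sheafHomAdj L).isEquivalence_right_of_isEquivalence_left
  haveI h : IsIso ((ModSite.sheafHomAdj L).counit.app (ModSite.unit O)) := inferInstance
  exact ⟨isEquivalence_of_inverse (N := L) (asIso ((ModSite.sheafHomAdj L).counit.app (ModSite.unit O))), h⟩

variable {D : Type u} [SmallCategory D] {K : GrothendieckTopology D} {O' : Sheaf K CommRingCat.{u}}

/-- the inverse image of an invertible module is invertible -/
lemma isEquivalence_pull (f : ModSite.RMor O O') [f.fn.Final] {L : ModSite.Mod O'}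
    (hL : ((ModSite.tensorBi O').obj L).IsEquivalence) :
    ((ModSite.tensorBi O).obj (f.pull.obj L)).IsEquivalence := by
  haveI : PreservesFiniteLimits (PullFlat.pb J K f.fn) := f.exact
  obtain ⟨N, ⟨e⟩⟩ := exists_inverse hL
  exact isEquivalence_of_inverse (PullFlat.pullTensorIso f L N ≪≫ f.pull.mapIso e ≪≫
    asIso (SheafOfModules.pullbackObjUnitToUnit f.sharpR))

end Groth.Agent.InvSite
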